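import Mathlib
import Cfsg.Agent.H626.IP
import Cfsg.Agent.H649.Transport
import Cfsg.Agent.S0940
import Cfsg.Agent.S0966
import Cfsg.Agent.S0907
import Cfsg.Agent.S0913
import Cfsg.Agent.Blocks.BlockIdem
import Cfsg.Agent.Blocks.RegularCount
import Cfsg.Agent.Blocks.OrbitSum
set_option linter.all false

/-!
# Characters of the principal block over a character of a subgroup containing a Sylow subgroup

* `blockCoeff_centralizer` : at a `p`-regular element centralizing a Sylow `p`-subgroup the
  coefficient of the principal block idempotent is congruent to `1 / r`, `r` the number of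
  `p`-regular elements.
* `exists_over` : if `H` contains a Sylow `p`-subgroup of `G` and `η` is a character of degree prime
  to `p` in the principal block of `H`, then some `χ` in the principal block of `G` has
  `χ(1) [χ_H, η]` prime to `p`.
-/

set_option autoImplicit false
open scoped ComplexConjugate
open Cfsg Cfsg.Agent.Characters.Core Cfsg.Agent.Blocks.Local

namespace Cfsg.Agent.H626

universe u

section count

variable {G : Type*} [Group G] [Finite G] {p : ℕ} [hp : Fact p.Prime]

/-- The pairs counted in Külshammer's formula. -/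
abbrev KPairs (p : ℕ) (g : G) : Type _ :=
  {xy : G × G // (∃ k : ℕ, orderOf xy.1 = p ^ k) ∧ ¬ p ∣ orderOf xy.2 ∧ xy.1 * xy.2 = g}

omit [Finite G] in
theorem orderOf_conj' (u x : G) : orderOf (u * x * u⁻¹) = orderOf x :=
  (MulAut.conj u).orderOf_eq x

theorem card_kPairs (P : Sylow p G) {g : G} (hg : g ∈ Subgroup.centralizer (P : Set G))
    (hgp : ¬ p ∣ orderOf g) : Nat.card (KPairs p g) ≡ 1 [MOD p] := by
  classical
  have hcg : ∀ u : (P : Subgroup G), (u : G) * g * (u : G)⁻¹ = g := by
    intro u
    rw [mul_inv_eq_iff_eq_mul]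
    exact (Subgroup.mem_centralizer_iff.1 hg u u.2)
  let _ : MulAction (P : Subgroup G) (KPairs p g) :=
    { smul := fun u xy => ⟨((u : G) * xy.1.1 * (u : G)⁻¹, (u : G) * xy.1.2 * (u : G)⁻¹), by
        obtain ⟨⟨a, b⟩, ⟨k, hk⟩, hb, hab⟩ := xy
        refine ⟨⟨k, ?_⟩, ?_, ?_⟩
        · change orderOf ((u : G) * a * (u : G)⁻¹) = p ^ k
          rw [orderOf_conj', hk]
        · change ¬ p ∣ orderOf ((u : G) * b * (u : G)⁻¹)
          rwa [orderOf_conj']
        · change ((u : G) * a * (u : G)⁻¹) * ((u : G) * b * (u : G)⁻¹) = g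
          have h1 : ((u : G) * a * (u : G)⁻¹) * ((u : G) * b * (u : G)⁻¹) =
            (u : G) * (a * b) * (u : G)⁻¹ := by group
          rw [h1]
          change a * b = g at hab
          rw [hab, hcg]⟩
      one_smul := by
        rintro ⟨⟨a, b⟩, h⟩
        apply Subtype.ext
        change (((1 : (P : Subgroup G)) : G) * a * ((1 : (P : Subgroup G)) : G)⁻¹,
          ((1 : (P : Subgroup G)) : G) * b * ((1 : (P : Subgroup G)) : G)⁻¹) = (a, b)
        simp
      mul_smul := by
        rintro u v ⟨⟨a, b⟩, h⟩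
        apply Subtype.ext
        change (((u * v : (P : Subgroup G)) : G) * a * ((u * v : (P : Subgroup G)) : G)⁻¹,
          ((u * v : (P : Subgroup G)) : G) * b * ((u * v : (P : Subgroup G)) : G)⁻¹) =
          ((u : G) * ((v : G) * a * (v : G)⁻¹) * (u : G)⁻¹,
            (u : G) * ((v : G) * b * (v : G)⁻¹) * (u : G)⁻¹)
        rw [Subgroup.coe_mul]
        congr 1 <;> group }
  have hsm : ∀ (u : (P : Subgroup G)) (xy : KPairs p g),
      (u • xy).1 = ((u : G) * xy.1.1 * (u : G)⁻¹, (u : G) * xy.1.2 * (u : G)⁻¹) := fun _ _ => rfl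
  have h := P.2.card_modEq_card_fixedPoints (KPairs p g)
  refine h.trans ?_
  have h1 : Nat.card (MulAction.fixedPoints (P : Subgroup G) (KPairs p g)) = 1 := by
    rw [Nat.card_eq_one_iff_unique]
    refine ⟨⟨?_⟩, ⟨⟨⟨(1, g), ⟨0, by simp⟩, hgp, one_mul g⟩, ?_⟩⟩⟩
    · have key : ∀ z : MulAction.fixedPoints (P : Subgroup G) (KPairs p g), z.1.1.1 = 1 := by
        rintro ⟨⟨⟨a, b⟩, ⟨k, hk⟩, hb, hab⟩, hfix⟩
        change a = 1
        change orderOf a = p ^ k at hk
        change ¬ p ∣ orderOf b at hb
        change a * b = g at hab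
        have hu : ∀ u ∈ (P : Subgroup G), u * a = a * u ∧ u * b = b * u := by
          intro u hu
          have h2 := congrArg Subtype.val (hfix ⟨u, hu⟩)
          rw [hsm] at h2
          have h3 : u * a * u⁻¹ = a := congrArg Prod.fst h2
          have h4 : u * b * u⁻¹ = b := congrArg Prod.snd h2
          exact ⟨mul_inv_eq_iff_eq_mul.1 h3, mul_inv_eq_iff_eq_mul.1 h4⟩
        have haP : a ∈ (P : Subgroup G) :=
          Blocks.RegularCount.mem_sylow_of_mem_centralizer P
            (Subgroup.mem_centralizer_iff.2 fun u hu' => (hu u hu').1) ⟨k, hk⟩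
        have hcom : Commute a b := (hu a haP).2
        have hag : a = g * b⁻¹ := by rw [← hab, mul_inv_cancel_right]
        have hgb : Commute g b⁻¹ := by
          rw [← hab]
          exact (hcom.mul_left (Commute.refl b)).inv_right
        have hpow : a ^ (orderOf g * orderOf b) = 1 := by
          rw [hag, hgb.mul_pow, pow_mul, pow_orderOf_eq_one, one_pow, one_mul, mul_comm, pow_mul,
            inv_pow, pow_orderOf_eq_one, inv_one, one_pow]
        have hcop : Nat.Coprime (p ^ k) (orderOf g * orderOf b) := by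
          apply Nat.Coprime.pow_left
          rw [hp.out.coprime_iff_not_dvd]
          intro hdvd
          rcases (hp.out.dvd_mul).1 hdvd with h5 | h5
          · exact hgp h5
          · exact hb h5
        have h6 : orderOf a ∣ Nat.gcd (p ^ k) (orderOf g * orderOf b) :=
          Nat.dvd_gcd (hk ▸ dvd_rfl) (orderOf_dvd_of_pow_eq_one hpow)
        rw [hcop.gcd_eq_one, Nat.dvd_one, orderOf_eq_one_iff] at h6
        exact h6
      intro z w
      apply Subtype.ext
      apply Subtype.ext
      have hz := key z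
      have hw := key w
      have h7 := z.1.2.2.2
      have h8 := w.1.2.2.2
      rw [hz, one_mul] at h7
      rw [hw, one_mul] at h8
      exact Prod.ext (hz.trans hw.symm) (h7.trans h8.symm)
    · intro u
      apply Subtype.ext
      rw [hsm]
      change ((u : G) * 1 * (u : G)⁻¹, (u : G) * g * (u : G)⁻¹) = (1, g)
      rw [hcg]
      simp
  rw [h1]

end count

section coeff

variable {G : Type u} [Group G] [Finite G] {p : ℕ} [hp : Fact p.Prime] {M : Ideal AlgInt}

/-- The number of `p`-regular elements. -/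
noncomputable def nreg (p : ℕ) (G : Type*) [Group G] : ℕ := Nat.card {y : G // ¬ p ∣ orderOf y}

theorem nreg_not_dvd : ¬ p ∣ nreg p G := Blocks.RegularCount.not_dvd_card_regular

theorem blockCoeff_centralizer (hM : IsPModular p M) (P : Sylow p G) {g : G}
    (hg : g ∈ Subgroup.centralizer (P : Set G)) (hgp : ¬ p ∣ orderOf g) :
    MemLocalIdeal M (blockCoeff (principalBlock M G) g - (nreg p G : ℂ)⁻¹) := by
  have hMp : M.IsPrime := isPrime_of_isPModular hM
  have h1 := S0940.result p M hM g hgp
  refine memLocalIdeal_sub_trans h1 ?_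
  change MemLocalIdeal M ((Nat.card (KPairs p g) : ℂ) / (nreg p G : ℂ) - (nreg p G : ℂ)⁻¹)
  have h2 := card_kPairs P hg hgp
  have h3 : (1 : ℤ) ≡ (Nat.card (KPairs p g) : ℤ) [ZMOD p] := by
    have := (Int.natCast_modEq_iff).2 h2.symm
    exact_mod_cast this
  obtain ⟨k, hk⟩ := (Int.modEq_iff_dvd.1 h3)
  have h4 : (Nat.card (KPairs p g) : ℂ) = 1 + p * k := by
    have : (Nat.card (KPairs p g) : ℤ) = 1 + p * k := by linarith
    exact_mod_cast this
  have h5 : (Nat.card (KPairs p g) : ℂ) / (nreg p G : ℂ) - (nreg p G : ℂ)⁻¹ =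
      (p : ℂ) * (k * (nreg p G : ℂ)⁻¹) := by
    rw [h4]
    ring
  rw [h5]
  exact memLocalIdeal_mul_right ((memLocalIdeal_natCast_iff hM p).2 dvd_rfl)
    (memLocalRing_mul (memLocalRing_intCast k) (memLocalRing_inv_natCast hM nreg_not_dvd))

theorem isPBlock_principal (M : Ideal AlgInt) (G : Type u) [Group G] :
    IsPBlock M (principalBlock M G) :=
  ⟨⟨fun _ => 1, Blocks.Basic.isIrrCharacter_one⟩, rfl⟩

theorem blockCoeff_singular (hM : IsPModular p M) {g : G} (hg : p ∣ orderOf g) :
    blockCoeff (principalBlock M G) g = 0 := by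
  have h := S0907.result p M hM (principalBlock M G) (isPBlock_principal M G) 1 g
    (by rw [orderOf_one]; exact hp.out.one_lt.not_ge ∘ Nat.le_of_dvd Nat.one_pos) hg
  rw [blockCoeff, h, mul_zero]

/-- The sum of a function over the `p`-regular elements of the centralizer of `P`. -/
noncomputable def creg (p : ℕ) (P : Subgroup G) (η : G → ℂ) : ℂ :=
  haveI := Fintype.ofFinite G
  haveI := Classical.decPred (fun x : G => x ∈ Subgroup.centralizer (P : Set G) ∧ ¬ p ∣ orderOf x)
  ∑ x ∈ Finset.univ.filter (fun x : G => x ∈ Subgroup.centralizer (P : Set G) ∧ ¬ p ∣ orderOf x),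
    η x

/-- Localisation to the centralizer of a Sylow subgroup. -/
theorem sum_congr_creg [Fintype G] (hM : IsPModular p M) (P : Subgroup G) (hP : IsPGroup p P)
    (f η : G → ℂ) (hf : ∀ u ∈ P, ∀ x, f (u * x * u⁻¹) = f x)
    (hη : ∀ u ∈ P, ∀ x, η (u * x * u⁻¹) = η x) (hfR : ∀ x, MemLocalRing M (f x))
    (hηR : ∀ x, MemLocalRing M (η x)) (c : ℂ) (hsing : ∀ x, p ∣ orderOf x → f x = 0)
    (hreg : ∀ x ∈ Subgroup.centralizer (P : Set G), ¬ p ∣ orderOf x →
      MemLocalIdeal M (f x - c)) :
    MemLocalIdeal M (∑ x, f x * η x - c * creg p P η) := by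
  classical
  have hMp : M.IsPrime := isPrime_of_isPModular hM
  obtain ⟨a, ha⟩ := Blocks.OrbitSum.sum_eq_sum_centralizer_add_smul P hP
    (A := localRing M) (fun x => ⟨f x * η x, memLocalRing_mul (hfR x) (hηR x)⟩) (by
      intro u hu x
      apply Subtype.ext
      change f (u * x * u⁻¹) * η (u * x * u⁻¹) = f x * η x
      rw [hf u hu, hη u hu])
  have ha' := congrArg (Subtype.val : localRing M → ℂ) ha
  have e1 : ((∑ x, (⟨f x * η x, memLocalRing_mul (hfR x) (hηR x)⟩ : localRing M) : localRing M) : ℂ)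
      = ∑ x, f x * η x := by
    push_cast
    rfl
  have e2 : (((∑ x ∈ Finset.univ.filter (· ∈ Subgroup.centralizer (P : Set G)),
      (⟨f x * η x, memLocalRing_mul (hfR x) (hηR x)⟩ : localRing M)) + p • a : localRing M) : ℂ)
      = (∑ x ∈ Finset.univ.filter (· ∈ Subgroup.centralizer (P : Set G)), f x * η x) +
        p * (a : ℂ) := by
    push_cast
    simp
  rw [e1, e2] at ha'
  rw [ha']
  have e3 : ∑ x ∈ Finset.univ.filter (· ∈ Subgroup.centralizer (P : Set G)), f x * η x =
      ∑ x ∈ Finset.univ.filter (fun x : G => x ∈ Subgroup.centralizer (P : Set G) ∧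
        ¬ p ∣ orderOf x), f x * η x := by
    symm
    apply Finset.sum_subset
    · intro x hx
      rw [Finset.mem_filter] at hx ⊢
      exact ⟨hx.1, hx.2.1⟩
    · intro x hx hx'
      rw [Finset.mem_filter] at hx hx'
      have : p ∣ orderOf x := by
        by_contra h
        exact hx' ⟨hx.1, hx.2, h⟩
      rw [hsing x this, zero_mul]
  have e4 : c * creg p P η = ∑ x ∈ Finset.univ.filter (fun x : G =>
      x ∈ Subgroup.centralizer (P : Set G) ∧ ¬ p ∣ orderOf x), c * η x := by
    rw [creg, Finset.mul_sum]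
    refine Finset.sum_congr ?_ fun _ _ => rfl
    ext x
    simp
  rw [e3, e4, add_sub_right_comm, ← Finset.sum_sub_distrib]
  refine memLocalIdeal_add (memLocalIdeal_sum fun x hx => ?_) ?_
  · rw [Finset.mem_filter] at hx
    rw [← sub_mul]
    exact memLocalIdeal_mul_right (hreg x hx.2.1 hx.2.2) (hηR x)
  · exact memLocalIdeal_mul_right ((memLocalIdeal_natCast_iff hM p).2 dvd_rfl) a.2

end coeff

section main

variable {G : Type u} [Group G] [Finite G] {p : ℕ} [hp : Fact p.Prime] {M : Ideal AlgInt}

/-- **Main lemma.** `H` contains a Sylow `p`-subgroup of `G`, `η ∈ Irr(H)` of degree prime to `p` in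
the principal block of `H`: some `χ` in the principal block of `G` has `χ(1) [χ_H, η]` prime to
`p`. -/
theorem exists_over_principal (hM : IsPModular p M) (P : Sylow p G) (H : Subgroup G)
    (hPH : (P : Subgroup G) ≤ H) (η : IrrCharacter H) (hη : η ∈ principalBlock M H)
    (hdeg : ¬ p ∣ charDegree (η : H → ℂ)) :
    ∃ χ : IrrCharacter G, χ ∈ principalBlock M G ∧ ¬ p ∣ charDegree (χ : G → ℂ) ∧
      ip (η : H → ℂ) (fun h : H => (χ : G → ℂ) h) ≠ 0 := by
  classical
  have := Fintype.ofFinite G
  have := Fintype.ofFinite H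
  have hMp : M.IsPrime := isPrime_of_isPModular hM
  have hfin : Finite (IrrCharacter G) := finite_irr
  have := Fintype.ofFinite (IrrCharacter G)
  have hηR : ∀ x, MemLocalRing M ((η : H → ℂ) x) := fun x =>
    memLocalRing_of_isIntegral (Blocks.Central.isIntegral_irr η.2 x)
  have hηc := isIrr_isClassFunction η.2
  let P' : Sylow p H := P.subtype hPH
  have hcP : ∀ x : H, x ∈ Subgroup.centralizer ((P' : Subgroup H) : Set H) →
      (x : G) ∈ Subgroup.centralizer ((P : Subgroup G) : Set G) := by
    intro x hx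
    rw [Subgroup.mem_centralizer_iff] at hx ⊢
    intro y hy
    exact congrArg (Subtype.val : H → G) (hx ⟨y, hPH hy⟩ hy)
  obtain ⟨d, hd0, hd⟩ := isIrr_apply_one η.2
  have hdeg' : charDegree (η : H → ℂ) = d := by
    rw [charDegree, hd]
    simp
  rw [hdeg'] at hdeg
  have hB0G := isPBlock_principal M G
  have hB0H := isPBlock_principal M H
  set S := creg p (P' : Subgroup H) (η : H → ℂ) with hS
  have hSR : MemLocalRing M S := by
    rw [hS, creg]
    exact memLocalRing_sum fun x _ => hηR x
  -- in `H`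
  have k1 : MemLocalIdeal M (∑ x : H, blockCoeff (principalBlock M H) x * (η : H → ℂ) x -
      (nreg p H : ℂ)⁻¹ * S) :=
    sum_congr_creg hM (P' : Subgroup H) P'.2 _ _
      (fun u _ x => Blocks.BlockIdem.isClassFunction_blockCoeff _ x u) (fun u _ x => hηc x u)
      (fun x => S0913.result p M hM _ hB0H x) hηR _ (fun x hx => blockCoeff_singular hM hx)
      (fun x hx hx' => blockCoeff_centralizer hM P' hx hx')
  have k2 : ∑ x : H, blockCoeff (principalBlock M H) x * (η : H → ℂ) x = d := by
    have := Blocks.BlockIdem.lin_blockCoeff (principalBlock M H) η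
    rw [Blocks.ConvCentral.lin_def, if_pos hη, hd] at this
    exact this
  rw [k2] at k1
  have hSunit : ¬ MemLocalIdeal M S := by
    intro h
    have h1 : MemLocalIdeal M (d : ℂ) := by
      rw [memLocalIdeal_iff_of_sub k1]
      exact memLocalIdeal_mul_left (memLocalRing_inv_natCast hM nreg_not_dvd) h
    exact hdeg ((memLocalIdeal_natCast_iff hM d).1 h1)
  -- in `G`
  have k3 : MemLocalIdeal M (∑ x : H, blockCoeff (principalBlock M G) (x : G) * (η : H → ℂ) x -
      (nreg p G : ℂ)⁻¹ * S) :=
    sum_congr_creg hM (P' : Subgroup H) P'.2 (fun x : H => blockCoeff (principalBlock M G) (x : G)) _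
      (fun u _ x => Blocks.BlockIdem.isClassFunction_blockCoeff _ (x : G) (u : G))
      (fun u _ x => hηc x u)
      (fun x => S0913.result p M hM _ hB0G x) hηR _
      (fun x hx => blockCoeff_singular hM (by rwa [Subgroup.orderOf_coe]))
      (fun x hx hx' => blockCoeff_centralizer hM P (hcP x hx) (by rwa [Subgroup.orderOf_coe]))
  have k4 : ¬ MemLocalIdeal M
      (∑ x : H, blockCoeff (principalBlock M G) (x : G) * (η : H → ℂ) x) := by
    rw [memLocalIdeal_iff_of_sub k3]
    intro h
    rcases memLocalIdeal_or_of_mul (memLocalRing_inv_natCast hM nreg_not_dvd) hSR h with h1 | h1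
    · have h2 : MemLocalIdeal M ((nreg p G : ℂ) * (nreg p G : ℂ)⁻¹) :=
        memLocalIdeal_mul_left (memLocalRing_natCast _) h1
      have h3 : (nreg p G : ℂ) ≠ 0 := by
        have : nreg p G ≠ 0 := fun h0 => nreg_not_dvd (p := p) (G := G) (h0 ▸ dvd_zero p)
        exact_mod_cast this
      rw [mul_inv_cancel₀ h3] at h2
      exact not_memLocalIdeal_one h2
    · exact hSunit h1
  -- expand
  choose m hm using fun χ : IrrCharacter G => classInner_isNat (isIrr_isCharacter η.2)
    (Characters.Clifford.isCharacter_restrict H (isIrr_isCharacter χ.2))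
  choose e he0 he using fun χ : IrrCharacter G => isIrr_apply_one χ.2
  have k5 : (H.index : ℂ) * ∑ x : H, blockCoeff (principalBlock M G) (x : G) * (η : H → ℂ) x =
      ∑ χ ∈ Finset.univ.filter (· ∈ principalBlock M G), ((e χ * m χ : ℕ) : ℂ) := by
    have hcoe : ∀ x : G, blockCoeff (principalBlock M G) x = (Nat.card G : ℂ)⁻¹ *
        ∑ χ ∈ Finset.univ.filter (· ∈ principalBlock M G),
          (χ : G → ℂ) 1 * conj ((χ : G → ℂ) x) := by
      intro x
      rw [blockCoeff, finsum_mem_eq_toFinset_sum]
      congr 1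
      refine Finset.sum_congr ?_ fun _ _ => rfl
      ext χ
      simp
    have hH0 : (Nat.card H : ℂ) ≠ 0 := by exact_mod_cast Nat.card_pos.ne'
    have hG0 : (Nat.card G : ℂ) ≠ 0 := by exact_mod_cast Nat.card_pos.ne'
    have hGH : (Nat.card G : ℂ) = Nat.card H * H.index := by
      exact_mod_cast (H.card_mul_index).symm
    have hH1 : (H.index : ℂ) ≠ 0 := by exact_mod_cast H.index_ne_zero_of_finite
    have e1 : ∀ x : H, blockCoeff (principalBlock M G) (x : G) * (η : H → ℂ) x =
        ∑ χ ∈ Finset.univ.filter (· ∈ principalBlock M G), (Nat.card G : ℂ)⁻¹ *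
          ((e χ : ℂ) * ((η : H → ℂ) x * conj ((χ : G → ℂ) x))) := by
      intro x
      rw [hcoe, Finset.mul_sum, Finset.sum_mul]
      refine Finset.sum_congr rfl fun χ _ => ?_
      rw [he]
      ring
    rw [Finset.sum_congr rfl (fun x _ => e1 x), Finset.sum_comm, Finset.mul_sum]
    refine Finset.sum_congr rfl fun χ _ => ?_
    rw [← Finset.mul_sum, ← Finset.mul_sum]
    have e2 : ∑ x : H, (η : H → ℂ) x * conj ((χ : G → ℂ) x) = Nat.card H * m χ := by
      rw [← hm χ, classInner_def, mul_inv_cancel_left₀ hH0]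
    rw [e2, hGH]
    push_cast
    field_simp
  have hidx : ¬ p ∣ H.index := by
    intro h
    exact P.not_dvd_index (h.trans (Subgroup.index_dvd_of_le hPH))
  have k6 : ¬ MemLocalIdeal M
      (∑ χ ∈ Finset.univ.filter (· ∈ principalBlock M G), ((e χ * m χ : ℕ) : ℂ)) := by
    rw [← k5]
    intro h
    have hR : MemLocalRing M
        (∑ x : H, blockCoeff (principalBlock M G) (x : G) * (η : H → ℂ) x) :=
      memLocalRing_sum fun x _ =>
        memLocalRing_mul (S0913.result p M hM _ hB0G (x : G)) (hηR x)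
    rcases memLocalIdeal_or_of_mul (memLocalRing_natCast _) hR h with h1 | h1
    · exact hidx ((memLocalIdeal_natCast_iff hM _).1 h1)
    · exact k4 h1
  obtain ⟨χ, hχ, hχ'⟩ := exists_not_memLocalIdeal_of_sum k6
  rw [Finset.mem_filter] at hχ
  have h7 : ¬ p ∣ e χ * m χ := fun h => hχ' ((memLocalIdeal_natCast_iff hM _).2 h)
  refine ⟨χ, hχ.2, ?_, ?_⟩
  · rw [charDegree, he]
    simp only [Complex.natCast_re, Nat.floor_natCast]
    exact fun h => h7 (h.mul_right _)
  · rw [ip_eq, hm]
    intro h
    have h8 : m χ = 0 := by exact_mod_cast h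
    exact h7 (by rw [h8, mul_zero]; exact dvd_zero p)

end main

end Cfsg.Agent.H626
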