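import Mathlib
import Cfsg.Agent.H626.RealOddD
set_option linter.all false

/-!
# Solvable groups with self-normalizing Sylow 2-subgroup with elementary abelian abelianization

All irreducible characters of odd degree are real-valued.
-/

set_option autoImplicit false
set_option linter.unusedSectionVars false
open scoped ComplexConjugate commutatorElement
open Cfsg Cfsg.Agent.Characters.Core Cfsg.Agent.Characters.Clifford
  Cfsg.Agent.CharactersDeep.CliffordSum

namespace Cfsg.Agent.H626

universe u v

section sub

variable {G : Type u} [Group G] [Finite G]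

/-- An odd-degree irreducible character has a `P`-invariant constituent on a normal subgroup. -/
theorem exists_invariant_constituent (P : Subgroup G) (hP : IsPGroup 2 P) (hodd : Odd P.index)
    (K : Subgroup G) [K.Normal] {χ : G → ℂ} (hχ : IsIrrCharacter G χ)
    (hχo : ∃ n : ℕ, Odd n ∧ χ 1 = n) :
    ∃ θ : K → ℂ, IsIrrCharacter K θ ∧ ip (fun k : K => χ k) θ ≠ 0 ∧
      ∀ x ∈ P, θ ∘ (MulAut.conjNormal x : MulAut K) = θ := by
  classical
  have := Fintype.ofFinite G
  have := Fintype.ofFinite K
  obtain ⟨θ, hθ, -, hθ0⟩ := exists_odd_constituent (isCharacter_restrict K (isIrr_isCharacter hχ)) (by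
    obtain ⟨n, hn, hn'⟩ := hχo
    exact ⟨n, hn, hn'⟩)
  obtain ⟨T, hT⟩ := inertia_aux K θ
  -- the index of `T` is odd
  have hTi : Odd T.index := by
    have h1 := card_conj_mul_card K θ T hT
    have h2 : T.index = (Finset.univ.image
        (fun x : G => θ ∘ (MulAut.conjNormal x : MulAut K))).card := by
      apply Nat.eq_of_mul_eq_mul_left (Nat.card_pos (α := T))
      rw [T.card_mul_index, ← h1, mul_comm]
    rw [ip_eq] at hθ0
    have h3 := restrict_eq_smul_sum K hχ hθ hθ0
    obtain ⟨e, he⟩ := classInner_isNat (isCharacter_restrict K (isIrr_isCharacter hχ))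
      (isIrr_isCharacter hθ)
    obtain ⟨d, -, hd⟩ := isIrr_apply_one hθ
    obtain ⟨n, hn, hn'⟩ := hχo
    have h4 := congrFun h3 (1 : K)
    have h5 : (∑ ψ ∈ Finset.univ.image (fun x : G => θ ∘ (MulAut.conjNormal x : MulAut K)), ψ)
        (1 : K) = T.index * d := by
      rw [Finset.sum_apply, Finset.sum_congr rfl (g := fun _ => (d : ℂ)), Finset.sum_const, h2,
        nsmul_eq_mul]
      intro ψ hψ
      obtain ⟨x, -, rfl⟩ := Finset.mem_image.1 hψ
      simp [hd]
    rw [Pi.smul_apply, h5, he, smul_eq_mul] at h4
    change χ ((1 : K) : G) = _ at h4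
    rw [Subgroup.coe_one, hn'] at h4
    have h6 : n = e * (T.index * d) := by exact_mod_cast h4
    exact Odd.of_dvd_nat hn ⟨e * d, by rw [h6]; ring⟩
  -- Sylow
  have : Fact (Nat.Prime 2) := ⟨Nat.prime_two⟩
  obtain ⟨R⟩ : Nonempty (Sylow 2 T) := inferInstance
  set A : Subgroup G := (R : Subgroup T).map T.subtype with hA
  have hA2 : IsPGroup 2 A := R.2.map _
  have hAi : Odd A.index := by
    rw [hA, Subgroup.index_map_subtype]
    refine Odd.mul ?_ hTi
    rw [← Nat.not_even_iff_odd, even_iff_two_dvd]
    exact R.not_dvd_index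
  obtain ⟨s, hs⟩ := sylow_conj A P hA2 hP hAi hodd
  refine ⟨θ ∘ (MulAut.conjNormal s : MulAut K), isIrr_conjNormal hθ s, ?_, ?_⟩
  · rw [ip_eq] at hθ0 ⊢
    rwa [classInner_restrict_conjNormal (isIrr_isClassFunction hχ)]
  · intro x hx
    have h1 : s * x * s⁻¹ ∈ T := by
      have h2 := (hs x).1 hx
      rw [hA] at h2
      obtain ⟨y, -, hy⟩ := h2
      rw [← hy]
      exact y.2
    rw [hT] at h1
    rw [← comp_conjNormal_mul]
    have h3 : s * x = (s * x * s⁻¹) * s := by group
    rw [h3, comp_conjNormal_mul, h1]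

/-- Over a `G`-invariant linear character the restriction is a multiple. -/
theorem restrict_linear (K : Subgroup G) [K.Normal] {χ : G → ℂ} (hχ : IsIrrCharacter G χ)
    {α : K → ℂ} (hα : Lin α) (hinv : ∀ g : G, α ∘ (MulAut.conjNormal g : MulAut K) = α)
    (h0 : ip (fun k : K => χ k) α ≠ 0) (k : K) : χ k = χ 1 * α k := by
  classical
  have := Fintype.ofFinite G
  have := Fintype.ofFinite K
  rw [ip_eq] at h0
  have h1 := CharDeep.CliffordCorr.restrict_eq_smul_of_invariant K hχ hα.irr hinv h0
  have h2 := congrFun h1 (1 : K)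
  have h3 := congrFun h1 k
  rw [Pi.smul_apply, smul_eq_mul, hα.one, mul_one] at h2
  rw [Pi.smul_apply, smul_eq_mul, ← h2] at h3
  exact h3

theorem deflate (K : Subgroup G) [K.Normal] {χ : G → ℂ} (hχ : IsIrrCharacter G χ)
    (hK : ∀ k ∈ K, χ k = χ 1) (hall : AllReal (G ⧸ K)) (hχo : ∃ n : ℕ, Odd n ∧ χ 1 = n) (g : G) :
    conj (χ g) = χ g := by
  classical
  have := Fintype.ofFinite K
  have hsum : ∑ n : K, χ n ≠ 0 := by
    rw [Finset.sum_congr rfl (fun (n : K) _ => hK n n.2), Finset.sum_const, nsmul_eq_mul]
    refine mul_ne_zero ?_ (isIrr_apply_one_ne_zero hχ)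
    have h1 : (Finset.univ : Finset K).card ≠ 0 := by
      rw [Finset.card_univ]
      exact Fintype.card_ne_zero
    exact_mod_cast h1
  obtain ⟨χ', hχ'⟩ := Blocks.Deflate.exists_deflation K χ hχ hsum
  have h1 := hall χ' χ'.2 (by
    obtain ⟨n, hn, hn'⟩ := hχo
    refine ⟨n, hn, ?_⟩
    rw [← hn', hχ']
    rfl) (QuotientGroup.mk g)
  rw [hχ']
  exact h1

/-- Linear characters of the image of `P` in a quotient are real. -/
theorem lin_real_map (P : Subgroup G) (hlin : ∀ l : P → ℂ, Lin l → ∀ x, conj (l x) = l x)
    (K : Subgroup G) [K.Normal] (l : P.map (QuotientGroup.mk' K) → ℂ) (hl : Lin l) (x) :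
    conj (l x) = l x := by
  let f : P →* P.map (QuotientGroup.mk' K) := (QuotientGroup.mk' K).subgroupMap P
  obtain ⟨y, rfl⟩ := (QuotientGroup.mk' K).subgroupMap_surjective P x
  exact hlin (l ∘ f) (hl.comp f) y

end sub

/-- If a Sylow 2-subgroup `P` of the solvable group `G` is self-normalizing and all linear
characters of `P` are real, then all odd-degree irreducible characters of `G` are real. -/
theorem allReal_aux (n : ℕ) : ∀ (G : Type u) [Group G] [Finite G] [Group.IsSolvable G],
    Nat.card G = n → ∀ P : Subgroup G, IsPGroup 2 P → Odd P.index →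
    (∀ l : P → ℂ, Lin l → ∀ x, conj (l x) = l x) →
    Subgroup.normalizer (P : Set G) ≤ P → AllReal G := by
  classical
  induction n using Nat.strong_induction_on with
  | _ n ih =>
    intro G _ _ _ hG P hP hodd hlin hN χ hχ hχo
    have := Fintype.ofFinite G
    have : Fact (Nat.Prime 2) := ⟨Nat.prime_two⟩
    -- the quotient step
    have hquot : ∀ K : Subgroup G, ∀ _ : K.Normal, K ≠ ⊥ →
        Subgroup.normalizer ((P.map (QuotientGroup.mk' K) : Subgroup (G ⧸ K)) : Set (G ⧸ K)) ≤
          P.map (QuotientGroup.mk' K) → (∀ k ∈ K, χ k = χ 1) → ∀ g, conj (χ g) = χ g := by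
      intro K hKn hK hNK hker
      have hlt : Nat.card (G ⧸ K) < n := by
        rw [← hG, K.card_eq_card_quotient_mul_card_subgroup]
        have h1 : 0 < Nat.card (G ⧸ K) := Nat.card_pos
        have h2 : 1 < Nat.card K := (Subgroup.one_lt_card_iff_ne_bot K).2 hK
        nlinarith
      exact deflate K hχ hker (ih _ hlt (G ⧸ K) rfl (P.map (QuotientGroup.mk' K)) (hP.map _)
        (odd_index_map P hodd K) (lin_real_map P hlin K) hNK) hχo
    by_cases hO : pPrimeCore 2 G = ⊥
    · -- Case B
      set K := pCore 2 G with hK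
      have hKn : K.Normal := Lib.Cores.pCore_normal 2
      have hKP : K ≤ P := normal_le P hP hodd K (Lib.Cores.pCore_isPGroup 2)
      have hCK : Subgroup.centralizer (K : Set G) ≤ K :=
        Lib.HallHigman.centralizer_pCore_le_of_solvable 2 hO
      obtain ⟨l, hl, hl0⟩ := exists_under_odd P.subtype hP hχ hχo
      let j : K →* P := Subgroup.inclusion hKP
      set α : K → ℂ := l ∘ j with hα
      have hαl : Lin α := hl.comp j
      have hα0 : ip (fun k : K => χ k) α ≠ 0 :=
        ip_comp_ne_zero (isCharacter_comp P.subtype (isIrr_isCharacter hχ)) hl hl0 j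
      obtain ⟨T, hT⟩ := inertia_aux K α
      have hPT : P ≤ T := by
        intro x hx
        rw [hT]
        funext k
        have h1 := isIrr_isClassFunction hl.irr (j k) ⟨x, hx⟩
        change l (j ((MulAut.conjNormal x : MulAut K) k)) = l (j k)
        rw [← h1]
        rfl
      by_cases hTtop : T = ⊤
      · have hinv : ∀ g : G, α ∘ (MulAut.conjNormal g : MulAut K) = α := by
          intro g
          rw [← hT, hTtop]
          exact Subgroup.mem_top g
        have hres := restrict_linear K hχ hαl hinv hα0
        let K₁ : Subgroup G :=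
          { carrier := {g | ∃ h : g ∈ K, α ⟨g, h⟩ = 1}
            one_mem' := ⟨K.one_mem, hαl.one⟩
            mul_mem' := by
              rintro a b ⟨ha, ha'⟩ ⟨hb, hb'⟩
              obtain ⟨f, hf⟩ := hαl.exists_hom
              refine ⟨K.mul_mem ha hb, ?_⟩
              have h1 : (⟨a * b, K.mul_mem ha hb⟩ : K) = ⟨a, ha⟩ * ⟨b, hb⟩ := rfl
              rw [h1]
              rw [hf] at ha' hb' ⊢
              change (f (⟨a, ha⟩ * ⟨b, hb⟩) : ℂ) = 1
              rw [map_mul, Units.val_mul]
              change (f ⟨a, ha⟩ : ℂ) = 1 at ha'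
              change (f ⟨b, hb⟩ : ℂ) = 1 at hb'
              rw [ha', hb', one_mul]
            inv_mem' := by
              rintro a ⟨ha, ha'⟩
              obtain ⟨f, hf⟩ := hαl.exists_hom
              refine ⟨K.inv_mem ha, ?_⟩
              have h1 : (⟨a⁻¹, K.inv_mem ha⟩ : K) = ⟨a, ha⟩⁻¹ := rfl
              rw [h1]
              rw [hf] at ha' ⊢
              change (f ⟨a, ha⟩ : ℂ) = 1 at ha'
              change (f (⟨a, ha⟩⁻¹ : K) : ℂ) = 1
              rw [map_inv, Units.val_inv_eq_inv_val, ha', inv_one] }
        have hK₁K : K₁ ≤ K := fun g hg => hg.1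
        have hK₁n : K₁.Normal := by
          refine ⟨?_⟩
          rintro a ⟨ha, ha'⟩ g
          refine ⟨hKn.conj_mem a ha g, ?_⟩
          rw [← ha']
          exact congrFun (hinv g) ⟨a, ha⟩
        by_cases hK₁ : K₁ = ⊥
        · -- `K` is central
          have hcen : Subgroup.centralizer (K : Set G) = ⊤ := by
            rw [eq_top_iff]
            intro g _
            rw [Subgroup.mem_centralizer_iff]
            intro k hk
            have h1 : g * k * g⁻¹ ∈ K := hKn.conj_mem k hk g
            have h2 : α ⟨g * k * g⁻¹, h1⟩ = α ⟨k, hk⟩ := congrFun (hinv g) ⟨k, hk⟩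
            have h3 : g * k * g⁻¹ * k⁻¹ ∈ K₁ := by
              refine ⟨K.mul_mem h1 (K.inv_mem hk), ?_⟩
              obtain ⟨f, hf⟩ := hαl.exists_hom
              have h4 : (⟨g * k * g⁻¹ * k⁻¹, K.mul_mem h1 (K.inv_mem hk)⟩ : K) =
                ⟨g * k * g⁻¹, h1⟩ * ⟨k, hk⟩⁻¹ := rfl
              rw [h4]
              rw [hf] at h2 ⊢
              change (f (⟨g * k * g⁻¹, h1⟩ * ⟨k, hk⟩⁻¹) : ℂ) = 1
              have h2' : f ⟨g * k * g⁻¹, h1⟩ = f ⟨k, hk⟩ := Units.ext h2
              rw [map_mul, map_inv, h2', mul_inv_cancel, Units.val_one]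
            rw [hK₁, Subgroup.mem_bot, mul_inv_eq_one, mul_inv_eq_iff_eq_mul] at h3
            exact h3.symm
          have hPtop : P = ⊤ := by
            rw [eq_top_iff, ← hcen]
            exact hCK.trans hKP
          have hG2 : IsPGroup 2 G := by
            have := hP
            rw [hPtop] at this
            exact this.of_equiv Subgroup.topEquiv
          have hlχ : Lin χ := lin_of_odd hG2 hχ hχo
          intro g
          exact hlin (χ ∘ P.subtype) (hlχ.comp P.subtype) ⟨g, hPtop ▸ Subgroup.mem_top g⟩
        · refine hquot K₁ hK₁n hK₁ (normalizer_map_le P K₁ (hK₁K.trans hKP) hN) ?_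
          rintro k ⟨hk, hk'⟩
          have := hres ⟨k, hk⟩
          rw [hk', mul_one] at this
          exact this
      · -- the Clifford correspondent
        have := Fintype.ofFinite K
        have := Fintype.ofFinite T
        have hKT : K ≤ T := hKP.trans hPT
        rw [ip_eq] at hα0
        obtain ⟨ψ, hψ, hψχ, -⟩ := CharDeep.CliffordCorr.clifford_correspondence K α hαl.irr T (by
          intro g
          rw [hT]
          exact ⟨fun h n => congrFun h n, fun h => funext h⟩) hKT χ hχ hα0
        have hψo : ∃ m : ℕ, Odd m ∧ ψ 1 = m := by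
          obtain ⟨m, -, hm⟩ := isIrr_apply_one hψ
          obtain ⟨k, hk, hk'⟩ := hχo
          refine ⟨m, ?_, hm⟩
          have h1 : (k : ℂ) = T.index * m := by
            rw [← hk', ← hψχ, CharactersDeep.NormalInd.indFun_one, hm]
          have h2 : k = T.index * m := by exact_mod_cast h1
          exact Odd.of_dvd_nat hk ⟨T.index, by rw [h2, mul_comm]⟩
        have hlt : Nat.card T < n := by
          rw [← hG]
          exact lt_of_le_of_ne (Subgroup.card_le_card_group T)
            (fun h => hTtop (Subgroup.card_eq_iff_eq_top T |>.1 h))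
        have hallT := ih _ hlt T rfl (P.subgroupOf T)
          (hP.comap_of_injective T.subtype T.subtype_injective)
          (Odd.of_dvd_nat hodd (Subgroup.relIndex_dvd_index_of_le hPT)) (by
            intro l hl x
            let e : P →* P.subgroupOf T := (Subgroup.subgroupOfEquivOfLe hPT).symm.toMonoidHom
            have h1 := hlin (l ∘ e) (hl.comp e) (Subgroup.subgroupOfEquivOfLe hPT x)
            have h2 : e (Subgroup.subgroupOfEquivOfLe hPT x) = x :=
              (Subgroup.subgroupOfEquivOfLe hPT).symm_apply_apply x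
            rw [Function.comp, h2] at h1
            exact h1) (by
            intro g hg
            rw [Subgroup.mem_subgroupOf]
            apply hN
            rw [Subgroup.mem_normalizer_iff] at hg ⊢
            intro x
            by_cases hx : x ∈ T
            · have := hg ⟨x, hx⟩
              rw [Subgroup.mem_subgroupOf, Subgroup.mem_subgroupOf] at this
              exact this
            · constructor
              · intro h
                exact absurd (hPT h) hx
              · intro h
                exfalso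
                apply hx
                have h1 := hPT h
                have h2 := T.mul_mem (T.mul_mem (T.inv_mem g.2) h1) g.2
                have h3 : (g : G)⁻¹ * (g * x * (g : G)⁻¹) * g = x := by group
                rwa [h3] at h2)
        have hψr := hallT ψ hψ hψo
        intro g
        rw [← hψχ, indFun_apply, map_mul, map_inv₀, Complex.conj_natCast, map_sum]
        congr 1
        refine Finset.sum_congr rfl fun x _ => ?_
        by_cases h : x⁻¹ * g * x ∈ T
        · rw [extendByZero_of_mem _ _ h]
          exact hψr _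
        · rw [extendByZero_of_notMem _ _ h, map_zero]
    · -- Case A
      have hOn : (pPrimeCore 2 G).Normal := Lib.Cores.pPrimeCore_normal 2
      obtain ⟨K, p, hKn, hKO, hK, hp, hKc, -⟩ := H477.exists_elem_normal (pPrimeCore 2 G) hO
      have hKo : (Nat.card K).Coprime 2 :=
        Nat.Coprime.coprime_dvd_left (Subgroup.card_dvd_of_le hKO) (Lib.Cores.pPrimeCore_coprime 2)
      obtain ⟨j, hj⟩ := hP.exists_card_eq
      have hcop : (Nat.card P).Coprime (Nat.card K) := by
        rw [hj]
        exact Nat.Coprime.pow_left j hKo.symm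
      have hPK : P ⊓ K = ⊥ := (Subgroup.disjoint_of_coprime_natCard hcop).eq_bot
      obtain ⟨α, hα, hα0, hαP⟩ := exists_invariant_constituent P hP hodd K hχ hχo
      have hαl : Lin α := ⟨hα, Characters.CCBasic.irr_apply_one_of_comm
        (fun a b => hKc.is_comm.comm a b) hα⟩
      have hKcomm : ∀ x ∈ K, ∀ y ∈ K, x * y = y * x := by
        intro x hx y hy
        exact congrArg (Subtype.val : K → G) (hKc.is_comm.comm (⟨x, hx⟩ : K) ⟨y, hy⟩)
      -- `C_K(P) = 1`
      have hC : K ⊓ Subgroup.centralizer (P : Set G) = ⊥ := by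
        rw [eq_bot_iff, ← hPK]
        rintro k ⟨hk, hkc⟩
        refine ⟨hN ?_, hk⟩
        exact Subgroup.centralizer_le_normalizer _ hkc
      have hsup := Lib.CoprimeAbelian.sup_commutator_eq P K hKcomm
        (Subgroup.normalizer_eq_top_iff.2 hKn ▸ le_top) hcop
      rw [hC, bot_sup_eq] at hsup
      -- `α = 1`
      obtain ⟨f, hf⟩ := hαl.exists_hom
      have hker : ⁅K, P⁆ ≤ f.ker.map K.subtype := by
        rw [Subgroup.commutator_le]
        intro k hk x hx
        have h1 : x * k⁻¹ * x⁻¹ ∈ K := hKn.conj_mem _ (K.inv_mem hk) x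
        refine ⟨⟨k, hk⟩ * ⟨x * k⁻¹ * x⁻¹, h1⟩, ?_, ?_⟩
        · have h2 := congrFun (hαP x hx) (⟨k⁻¹, K.inv_mem hk⟩ : K)
          rw [hf] at h2
          have h3 : f ⟨x * k⁻¹ * x⁻¹, h1⟩ = f (⟨k, hk⟩ : K)⁻¹ := Units.ext h2
          rw [SetLike.mem_coe, MonoidHom.mem_ker, map_mul, h3, map_inv, mul_inv_cancel]
        · change k * (x * k⁻¹ * x⁻¹) = ⁅k, x⁆
          rw [commutatorElement_def]
          group
      have hα1 : ∀ k : K, α k = 1 := by
        intro k
        have h1 : (k : G) ∈ ⁅K, P⁆ := hsup.symm ▸ k.2
        obtain ⟨y, hy, hy'⟩ := hker h1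
        have : y = k := Subtype.ext hy'
        rw [hf, ← this]
        have h2 : f y = 1 := hy
        change (f y : ℂ) = 1
        rw [h2, Units.val_one]
      refine hquot K hKn hK ?_ ?_
      · rw [← PLocal.CoprimeLift.map_normalizer_mk K P hKo hP]
        exact Subgroup.map_mono hN
      · intro k hk
        have h1 := restrict_linear K hχ hαl (fun g => by
          funext a
          rw [Function.comp, hα1, hα1]) hα0 ⟨k, hk⟩
        rw [hα1, mul_one] at h1
        exact h1

/-- **Second part.** -/
theorem allReal_iff {G : Type u} [Group G] [Finite G] [Group.IsSolvable G] (P : Subgroup G)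
    (hP : IsPGroup 2 P) (hodd : Odd P.index) :
    AllReal G ↔ (commutator P = frattini P ∧ Subgroup.normalizer (P : Set G) = P) := by
  rw [commutator_eq_frattini_iff hP, ← lin_real_iff]
  constructor
  · intro h
    constructor
    · intro l hl x
      obtain ⟨χ, hχ, hχo, hχ0⟩ := exists_over_odd P.subtype P.subtype_injective
        (by rwa [P.range_subtype]) hl
      exact real_of_under hP P.subtype P.subtype_injective (by rwa [P.range_subtype]) hl
        (χ := χ) ⟨hχ, h χ hχ hχo, hχo⟩ hχ0 x
    · exact le_antisymm (normalizer_le_aux _ G rfl P hP hodd h) Subgroup.le_normalizer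
  · rintro ⟨h1, h2⟩
    exact allReal_aux _ G rfl P hP hodd h1 h2.le

end Cfsg.Agent.H626
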